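import Groth.Agent.ResProp.EF.K345.N1
import Groth.Agent.ResProp.EF.K412.Defs

/-!
# N1 in the coordinates of K412/Defs.lean: fields `gen`, `pres`, `t_x`, `i_g` of `Gen`
-/

set_option autoImplicit false
universe u

namespace Groth.Agent.ResProp.EF.K345

open K412

section

variable {A : Type u} {P : Type u} [CommRing A] [CommRing P] [Algebra A P]

theorem span_range_pow {n : ℕ} (c : Fin n → P) (m : ℕ) :
    (Submodule.span A (Set.range c)) ^ m =
      Submodule.span A (Set.range (fun J : Fin m → Fin n => mon c J)) := by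
  rw [Submodule.span_pow]
  congr 1
  ext x
  rw [Set.mem_pow]
  constructor
  · rintro ⟨f, rfl⟩
    have h : ∀ i, ∃ j, c j = (f i : P) := fun i => (f i).2
    choose J hJ using h
    refine ⟨J, ?_⟩
    rw [List.prod_ofFn]
    exact Finset.prod_congr rfl fun i _ => hJ i
  · rintro ⟨J, rfl⟩
    refine ⟨fun i => ⟨c (J i), J i, rfl⟩, ?_⟩
    rw [List.prod_ofFn]
    rfl

theorem mem_pow_iff {n : ℕ} (c : Fin n → P) (m : ℕ) (x : P) :
    x ∈ (Submodule.span A (Set.range c)) ^ m ↔
      ∃ p : (Fin m → Fin n) → A, ∑ J, algebraMap A P (p J) * mon c J = x := by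
  rw [span_range_pow, Submodule.mem_span_range_iff_exists_fun]
  simp only [Algebra.smul_def]

end

section

variable {A B : Type u} [CommRing A] [CommRing B]

/-- the hypothesis of this file: `B` is generated over `s(A)` by the `c j` -/
def Gens {n : ℕ} (s : A →+* B) (c : Fin n → B) : Prop :=
  Subring.closure (Set.range s ∪ Set.range c) = ⊤

theorem Gens.adjoin {n : ℕ} {s : A →+* B} {c : Fin n → B} (h : Gens s c) :
    letI := s.toAlgebra
    Algebra.adjoin A (Set.range c) = ⊤ := by
  let := s.toAlgebra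
  rw [eq_top_iff]
  intro x _
  have hx : x ∈ Subring.closure (Set.range s ∪ Set.range c) := by rw [h]; trivial
  rw [← Subalgebra.mem_toSubring]
  refine (Subring.closure_le (t := (Algebra.adjoin A (Set.range c)).toSubring)).2 ?_ hx
  rintro y (⟨a, rfl⟩ | hy)
  · exact Subalgebra.algebraMap_mem _ a
  · exact Algebra.subset_adjoin hy

theorem gens_of_adjoin {n : ℕ} {s : A →+* B} {c : Fin n → B}
    (h : letI := s.toAlgebra
      Algebra.adjoin A (Set.range c) = ⊤) : Gens s c := by
  let := s.toAlgebra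
  rw [Gens, eq_top_iff]
  intro x _
  have hx : x ∈ Algebra.adjoin A (Set.range c) := by rw [h]; trivial
  rw [← Subalgebra.mem_toSubring, Algebra.adjoin_eq_ring_closure] at hx
  exact hx

theorem Gens.span {n : ℕ} {s : A →+* B} {c : Fin n → B} (h : Gens s c) :
    letI := s.toAlgebra
    Algebra.adjoin A ((Submodule.span A (Set.range c) : Submodule A B) : Set B) = ⊤ := by
  let := s.toAlgebra
  rw [Algebra.adjoin_span]
  exact h.adjoin

/-- field `gen` -/
theorem Gens.gen {n : ℕ} {s : A →+* B} {c : Fin n → B} (h : Gens s c) {T : Type u} [CommRing T]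
    (F F' : B →+* T) (h1 : F.comp s = F'.comp s) (h2 : ∀ j, F (c j) = F' (c j)) : F = F' := by
  refine RingHom.eq_of_eqOn_set_dense (s := Set.range s ∪ Set.range c) h ?_
  rintro x (⟨a, rfl⟩ | ⟨j, rfl⟩)
  · exact RingHom.congr_fun h1 a
  · exact h2 j

/-- fields `t_x`, `i_g`: every element is in the span of the monomials of degree `m`, `m` large -/
theorem Gens.exists_coeff {n : ℕ} {s : A →+* B} {c : Fin n → B} (h : Gens s c) (i0 : Fin n)
    (h0 : c i0 = 1) {ι : Type*} [Finite ι] (b : ι → B) :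
    ∃ m₀ : ℕ, ∀ m, m₀ ≤ m → ∃ p : ι → (Fin m → Fin n) → A, ∀ l, b l = ∑ J, s (p l J) * mon c J := by
  let := s.toAlgebra
  have h1 : (1 : B) ∈ Submodule.span A (Set.range c) := h0 ▸ Submodule.subset_span ⟨i0, rfl⟩
  obtain ⟨m₀, hm₀⟩ := exists_subset_pow (Submodule.span A (Set.range c)) h1 h.span
    (Set.range b) (Set.finite_range b)
  refine ⟨m₀, fun m hm => ?_⟩
  have : ∀ l, ∃ p : (Fin m → Fin n) → A, ∑ J, algebraMap A B (p J) * mon c J = b l := fun l =>
    (mem_pow_iff c m (b l)).1 (hm₀ m hm ⟨l, rfl⟩)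
  choose p hp using this
  exact ⟨p, fun l => (hp l).symm⟩

/-- field `pres` -/
theorem Gens.exists_pres [IsNoetherianRing A] {n : ℕ} {s : A →+* B} {c : Fin n → B} (h : Gens s c)
    (i0 : Fin n) (h0 : c i0 = 1) :
    ∃ m₀ : ℕ, ∀ m, m₀ ≤ m → ∀ {T : Type u} [CommRing T] (a : A →+* T) (v : Fin n → T), v i0 = 1 →
      (∀ p : (Fin m → Fin n) → A, ∑ J, s (p J) * mon c J = 0 → ∑ J, a (p J) * mon v J = 0) →
      ∃ F : B →+* T, F.comp s = a ∧ ∀ j, F (c j) = v j := by
  let := s.toAlgebra
  have hX : Algebra.adjoin A ((Submodule.span A (Set.range (MvPolynomial.X :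
      Fin n → MvPolynomial (Fin n) A)) : Submodule A (MvPolynomial (Fin n) A)) :
      Set (MvPolynomial (Fin n) A)) = ⊤ := by
    rw [Algebra.adjoin_span, MvPolynomial.adjoin_range_X]
  let φ : MvPolynomial (Fin n) A →+* B := MvPolynomial.eval₂Hom s c
  have hφs : Function.Surjective φ := by
    rw [← RingHom.range_eq_top, eq_top_iff, ← h, Subring.closure_le]
    rintro _ (⟨r, rfl⟩ | ⟨j, rfl⟩)
    · exact ⟨MvPolynomial.C r, by simp [φ]⟩
    · exact ⟨MvPolynomial.X j, by simp [φ]⟩
  obtain ⟨m₀, hm₀⟩ := exists_ker_eq_span (Submodule.span A (Set.range (MvPolynomial.X :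
      Fin n → MvPolynomial (Fin n) A))) hX (MvPolynomial.X i0)
    (Submodule.subset_span ⟨i0, rfl⟩) φ
    (by simp [φ, h0]) (IsNoetherian.noetherian _)
  refine ⟨m₀, fun m hm T _ a v hv hrel => ?_⟩
  let ψ : MvPolynomial (Fin n) A →+* T := MvPolynomial.eval₂Hom a v
  have hker : RingHom.ker φ ≤ RingHom.ker ψ := by
    rw [hm₀ m hm, Ideal.span_le]
    rintro y (hy | ⟨hy, hy0⟩)
    · rw [Set.mem_singleton_iff] at hy
      subst hy
      simp [RingHom.mem_ker, ψ, hv]
    · obtain ⟨p, rfl⟩ := (mem_pow_iff _ m y).1 hy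
      change ψ _ = 0
      have h1 : ψ (∑ J, algebraMap A (MvPolynomial (Fin n) A) (p J) *
          mon (MvPolynomial.X : Fin n → MvPolynomial (Fin n) A) J) =
          ∑ J, a (p J) * mon v J := by
        rw [map_sum]
        refine Finset.sum_congr rfl fun J _ => ?_
        rw [map_mul, mon, map_prod, mon]
        simp [ψ, MvPolynomial.algebraMap_eq]
      rw [h1]
      refine hrel p ?_
      rw [← hy0, map_sum]
      refine Finset.sum_congr rfl fun J _ => ?_
      rw [map_mul, mon, mon, map_prod]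
      simp [φ, MvPolynomial.algebraMap_eq]
  refine ⟨RingHom.liftOfSurjective φ hφs ⟨ψ, hker⟩, ?_, ?_⟩
  · ext r
    have h2 : s r = φ (MvPolynomial.C r) := by
      simp [φ]
    rw [RingHom.comp_apply, h2, RingHom.liftOfSurjective_comp_apply]
    simp [ψ]
  · intro j
    have h2 : c j = φ (MvPolynomial.X j) := by
      simp [φ]
    rw [h2, RingHom.liftOfSurjective_comp_apply]
    simp [ψ]

end

end Groth.Agent.ResProp.EF.K345
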