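import Groth.Agent.ResProp.EF.K345.N1c
import Mathlib

/-!
# Local finiteness for affine flat groupoids (RGrpd) with Noetherian base, and node N1 of K412/Defs.lean
-/

set_option autoImplicit false
universe u

open TensorProduct Groth.Agent.Grpsch.AffGrpd

namespace Groth.Agent.ResProp.EF.K345

open K412

variable {A B : Type u} [CommRing A] [CommRing B]

/-- `B` as an `A`-algebra through `f`. -/
def Via (_f : A →+* B) : Type u := B

instance (f : A →+* B) : CommRing (Via f) := inferInstanceAs (CommRing B)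
instance (f : A →+* B) : Algebra A (Via f) := f.toAlgebra

/-- the identity `B → Via f` -/
def Via.of (f : A →+* B) : B ≃+* Via f := RingEquiv.refl B

theorem Via.algebraMap_eq (f : A →+* B) (a : A) : algebraMap A (Via f) a = Via.of f (f a) := rfl

theorem Via.smul_eq (f : A →+* B) (a : A) (b : Via f) : a • b = Via.of f (f a) * b := rfl

variable (G : RGrpd A B)

/-- the ring of composable pairs `(α, β)`: `β` on the left (through `t`), `α` on the right (through `s`) -/
abbrev R2 : Type u := Via G.t ⊗[A] Via G.s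

noncomputable def β₀ : B →+* R2 G :=
  (Algebra.TensorProduct.includeLeftRingHom : Via G.t →+* R2 G).comp (Via.of G.t).toRingHom

noncomputable def α₀ : B →+* R2 G :=
  ((Algebra.TensorProduct.includeRight : Via G.s →ₐ[A] R2 G) : Via G.s →+* R2 G).comp
    (Via.of G.s).toRingHom

theorem β₀_apply (b : B) : β₀ G b = (Via.of G.t b) ⊗ₜ[A] (1 : Via G.s) := rfl
theorem α₀_apply (b : B) : α₀ G b = (1 : Via G.t) ⊗ₜ[A] (Via.of G.s b) := rfl

theorem cond₀ : (α₀ G).comp G.s = (β₀ G).comp G.t := by
  ext a
  change (1 : Via G.t) ⊗ₜ[A] (algebraMap A (Via G.s) a) =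
    (algebraMap A (Via G.t) a) ⊗ₜ[A] (1 : Via G.s)
  rw [Algebra.algebraMap_eq_smul_one, Algebra.algebraMap_eq_smul_one, TensorProduct.tmul_smul,
    TensorProduct.smul_tmul']

/-- the ring map of a composable pair -/
noncomputable def pairLift {T : Type u} [CommRing T] (α β : B →+* T) (h : α.comp G.s = β.comp G.t) :
    R2 G →+* T :=
  letI : Algebra A T := (α.comp G.s).toAlgebra
  (Algebra.TensorProduct.productMap
    ({ β.comp (Via.of G.t).symm.toRingHom with
        commutes' := fun a => by
          change β (G.t a) = α (G.s a)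
          exact (RingHom.congr_fun h a).symm } : Via G.t →ₐ[A] T)
    ({ α.comp (Via.of G.s).symm.toRingHom with
        commutes' := fun a => rfl } : Via G.s →ₐ[A] T)).toRingHom

theorem pairLift_tmul {T : Type u} [CommRing T] (α β : B →+* T) (h : α.comp G.s = β.comp G.t)
    (g b : B) : pairLift G α β h (Via.of G.t g ⊗ₜ[A] Via.of G.s b) = β g * α b := by
  let : Algebra A T := (α.comp G.s).toAlgebra
  exact Algebra.TensorProduct.productMap_apply_tmul _ _ _ _

theorem pairLift_comp_α₀ {T : Type u} [CommRing T] (α β : B →+* T) (h : α.comp G.s = β.comp G.t) :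
    (pairLift G α β h).comp (α₀ G) = α := by
  ext b
  have := pairLift_tmul G α β h 1 b
  rw [map_one, map_one, one_mul] at this
  exact this

theorem pairLift_comp_β₀ {T : Type u} [CommRing T] (α β : B →+* T) (h : α.comp G.s = β.comp G.t) :
    (pairLift G α β h).comp (β₀ G) = β := by
  ext b
  have := pairLift_tmul G α β h b 1
  rw [map_one, map_one, mul_one] at this
  exact this

/-- the comultiplication -/
noncomputable def Dl : B →+* R2 G := G.comp (α₀ G) (β₀ G) (cond₀ G)

theorem comp_congr' {T : Type u} [CommRing T] {α α' β β' : B →+* T} (hα : α = α') (hβ : β = β')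
    (h : α.comp G.s = β.comp G.t) (h' : α'.comp G.s = β'.comp G.t) :
    G.comp α β h = G.comp α' β' h' := by
  subst hα hβ
  rfl

theorem pairLift_Dl {T : Type u} [CommRing T] (α β : B →+* T) (h : α.comp G.s = β.comp G.t) :
    (pairLift G α β h).comp (Dl G) = G.comp α β h := by
  rw [Dl, G.comp_nat]
  exact comp_congr' G (pairLift_comp_α₀ G α β h) (pairLift_comp_β₀ G α β h) _ _

theorem Dl_s (a : A) : Dl G (G.s a) = β₀ G (G.s a) :=
  RingHom.congr_fun (G.comp_s (α₀ G) (β₀ G) (cond₀ G)) a

/-- `R2` as an `A`-algebra through `β₀ ∘ s` -/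
def R2s : Type u := R2 G

noncomputable instance : CommRing (R2s G) := inferInstanceAs (CommRing (R2 G))
noncomputable instance : Algebra A (R2s G) := ((β₀ G).comp G.s).toAlgebra

/-- the identity -/
noncomputable def R2s.of : R2 G ≃+* R2s G := RingEquiv.refl _

/-- `Dl` as an algebra map -/
noncomputable def Dls : Via G.s →ₐ[A] R2s G :=
  { (R2s.of G).toRingHom.comp ((Dl G).comp (Via.of G.s).symm.toRingHom) with
    commutes' := fun a => Dl_s G a }

/-- the ring of composable triples -/
abbrev R3 : Type u := Via G.t ⊗[A] R2s G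

/-- `R2 → R3`, the last two arrows -/
noncomputable def jj : R2 G →+* R3 G :=
  ((Algebra.TensorProduct.includeRight : R2s G →ₐ[A] R3 G) : R2s G →+* R3 G).comp
    (R2s.of G).toRingHom

/-- the first arrow -/
noncomputable def γ₁ : B →+* R3 G :=
  (Algebra.TensorProduct.includeLeftRingHom : Via G.t →+* R3 G).comp (Via.of G.t).toRingHom

theorem jj_apply (z : R2 G) : jj G z = (1 : Via G.t) ⊗ₜ[A] (R2s.of G z) := rfl
theorem γ₁_apply (b : B) : γ₁ G b = (Via.of G.t b) ⊗ₜ[A] (1 : R2s G) := rfl

theorem cond₁ : ((jj G).comp (β₀ G)).comp G.s = (γ₁ G).comp G.t := by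
  ext a
  change (1 : Via G.t) ⊗ₜ[A] (algebraMap A (R2s G) a) =
    (algebraMap A (Via G.t) a) ⊗ₜ[A] (1 : R2s G)
  rw [Algebra.algebraMap_eq_smul_one, Algebra.algebraMap_eq_smul_one, TensorProduct.tmul_smul,
    TensorProduct.smul_tmul']

theorem cond₂ : ((jj G).comp (α₀ G)).comp G.s = ((jj G).comp (β₀ G)).comp G.t := by
  rw [RingHom.comp_assoc, RingHom.comp_assoc, cond₀]

/-- `Dl ⊗ 1` -/
noncomputable def H1 : R2 G →+* R3 G :=
  (Algebra.TensorProduct.map (AlgHom.id A (Via G.t)) (Dls G)).toRingHom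

theorem H1_tmul (g : Via G.t) (b : Via G.s) :
    H1 G (g ⊗ₜ[A] b) = g ⊗ₜ[A] (Dls G b) := rfl

theorem H1_β₀ : (H1 G).comp (β₀ G) = γ₁ G := by
  ext b
  change H1 G (Via.of G.t b ⊗ₜ[A] 1) = _
  rw [H1_tmul, map_one]
  rfl

theorem H1_α₀ : (H1 G).comp (α₀ G) = (jj G).comp (Dl G) := by
  ext b
  rfl

theorem H1_Dl (b : B) : H1 G (Dl G b) =
    pairLift G ((jj G).comp (α₀ G)) (G.comp ((jj G).comp (β₀ G)) (γ₁ G) (cond₁ G))
      (by rw [G.comp_t, cond₂]) (Dl G b) := by
  have h1 : (H1 G).comp (Dl G) = G.comp (G.comp ((jj G).comp (α₀ G)) ((jj G).comp (β₀ G)) (cond₂ G))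
      (γ₁ G) (by rw [G.comp_s, cond₁]) := by
    rw [Dl, G.comp_nat]
    refine comp_congr' G ?_ (H1_β₀ G) _ _
    rw [H1_α₀, Dl, G.comp_nat]
  have h2 := pairLift_Dl G ((jj G).comp (α₀ G)) (G.comp ((jj G).comp (β₀ G)) (γ₁ G) (cond₁ G))
      (by rw [G.comp_t, cond₂])
  have h3 := RingHom.congr_fun (h1.trans ((G.assoc _ _ _ (cond₂ G) (cond₁ G)).trans h2.symm)) b
  exact h3

section sub

variable (N : Submodule A (Via G.s))

/-- `B ⊗ (B / N)` as an `A`-module through `s` on the left factor -/
def Xs : Type u := Via G.t ⊗[A] (Via G.s ⧸ N)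

noncomputable instance : AddCommGroup (Xs G N) :=
  inferInstanceAs (AddCommGroup (Via G.t ⊗[A] (Via G.s ⧸ N)))

noncomputable instance : Module (Via G.t) (Xs G N) :=
  inferInstanceAs (Module (Via G.t) (Via G.t ⊗[A] (Via G.s ⧸ N)))

noncomputable instance : Module A (Xs G N) :=
  Module.compHom (Xs G N) ((Via.of G.t).toRingHom.comp G.s)

theorem Xs.smul_def (a : A) (x : Xs G N) : a • x = (Via.of G.t (G.s a)) • x := rfl

/-- the projection `R2s → Xs` -/
noncomputable def pr : R2s G →ₗ[A] Xs G N where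
  toFun z := (N.mkQ.lTensor (Via G.t)) ((R2s.of G).symm z)
  map_add' x y := by rw [map_add, map_add]; rfl
  map_smul' a x := by
    have h : ∀ z : R2 G, (N.mkQ.lTensor (Via G.t)) (β₀ G (G.s a) * z) =
        (Via.of G.t (G.s a)) • (N.mkQ.lTensor (Via G.t)) z := by
      intro z
      induction z using TensorProduct.induction_on with
      | zero => rw [mul_zero, map_zero, smul_zero]
      | tmul g b =>
        rw [β₀_apply, Algebra.TensorProduct.tmul_mul_tmul, one_mul, LinearMap.lTensor_tmul,
          LinearMap.lTensor_tmul, TensorProduct.smul_tmul', smul_eq_mul]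
      | add x y hx hy => rw [mul_add, map_add, map_add, hx, hy, smul_add]
    exact h ((R2s.of G).symm x)

/-- `φ = pr ∘ Dl` -/
noncomputable def phiN : Via G.s →ₗ[A] Xs G N := (pr G N).comp (Dls G).toLinearMap

theorem phiN_apply (b : B) : phiN G N (Via.of G.s b) = (N.mkQ.lTensor (Via G.t)) (Dl G b) := rfl

/-- the largest subcomodule in `N` -/
noncomputable def core : Submodule A (Via G.s) := LinearMap.ker (phiN G N)

theorem mem_core_iff (b : B) : Via.of G.s b ∈ core G N ↔
    Dl G b ∈ LinearMap.range (N.subtype.lTensor (Via G.t)) := by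
  have hex := lTensor_exact (Via G.t) (f := N.subtype) (g := N.mkQ)
    (by rw [LinearMap.exact_iff, Submodule.ker_mkQ, Submodule.range_subtype]) N.mkQ_surjective
  rw [core, LinearMap.mem_ker, phiN_apply]
  exact hex (Dl G b)

theorem core_le : core G N ≤ N := by
  intro b hb
  have hb' := (mem_core_iff G N ((Via.of G.s).symm b)).1 hb
  have hc : (RingHom.id B).comp G.s = (G.s.comp G.e).comp G.t := by
    rw [RingHom.comp_assoc, G.e_t, RingHom.comp_id, RingHom.id_comp]
  have h1 : (pairLift G (RingHom.id B) (G.s.comp G.e) hc) (Dl G ((Via.of G.s).symm b)) =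
      (Via.of G.s).symm b := by
    have := RingHom.congr_fun (pairLift_Dl G (RingHom.id B) (G.s.comp G.e) hc) ((Via.of G.s).symm b)
    rw [RingHom.comp_apply] at this
    rw [this]
    exact RingHom.congr_fun (G.comp_e (RingHom.id B)) _
  have h2 : ∀ z : Via G.t ⊗[A] N, Via.of G.s ((pairLift G (RingHom.id B) (G.s.comp G.e) hc)
      ((N.subtype.lTensor (Via G.t)) z)) ∈ N := by
    intro z
    induction z using TensorProduct.induction_on with
    | zero => rw [map_zero, map_zero, map_zero]; exact zero_mem _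
    | tmul g n =>
      rw [LinearMap.lTensor_tmul]
      have := pairLift_tmul G (RingHom.id B) (G.s.comp G.e) hc ((Via.of G.t).symm g)
        ((Via.of G.s).symm (n : Via G.s))
      rw [RingEquiv.apply_symm_apply, RingEquiv.apply_symm_apply] at this
      rw [Submodule.subtype_apply, this]
      exact N.smul_mem (G.e ((Via.of G.t).symm g)) n.2
    | add x y hx hy => rw [map_add, map_add, map_add]; exact add_mem hx hy
  obtain ⟨z, hz⟩ := hb'
  have h3 := h2 z
  rw [hz, h1, RingEquiv.apply_symm_apply] at h3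
  exact h3

/-- `pr ⊗ 1` kills the image of `N` -/
theorem pr_lTensor_aux (z : Via G.t ⊗[A] N) :
    ((pr G N).lTensor (Via G.t)) (pairLift G ((jj G).comp (α₀ G))
      (G.comp ((jj G).comp (β₀ G)) (γ₁ G) (cond₁ G)) (by rw [G.comp_t, cond₂])
      ((N.subtype.lTensor (Via G.t)) z)) = 0 := by
  induction z using TensorProduct.induction_on with
  | zero => rw [map_zero, map_zero, map_zero]
  | add x y hx hy => rw [map_add, map_add, map_add, hx, hy, add_zero]
  | tmul g n =>
    rw [LinearMap.lTensor_tmul]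
    have h1 := pairLift_tmul G ((jj G).comp (α₀ G))
      (G.comp ((jj G).comp (β₀ G)) (γ₁ G) (cond₁ G)) (by rw [G.comp_t, cond₂])
      ((Via.of G.t).symm g) ((Via.of G.s).symm (n : Via G.s))
    rw [RingEquiv.apply_symm_apply, RingEquiv.apply_symm_apply] at h1
    rw [Submodule.subtype_apply, h1]
    have h2 := RingHom.congr_fun (pairLift_Dl G ((jj G).comp (β₀ G)) (γ₁ G) (cond₁ G))
      ((Via.of G.t).symm g)
    rw [← h2, RingHom.comp_apply]
    generalize Dl G ((Via.of G.t).symm g) = w
    induction w using TensorProduct.induction_on with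
    | zero => rw [map_zero, zero_mul, map_zero]
    | add x y hx hy => rw [map_add, add_mul, map_add, hx, hy, add_zero]
    | tmul g' b' =>
      have h3 := pairLift_tmul G ((jj G).comp (β₀ G)) (γ₁ G) (cond₁ G)
        ((Via.of G.t).symm g') ((Via.of G.s).symm b')
      rw [RingEquiv.apply_symm_apply, RingEquiv.apply_symm_apply] at h3
      rw [h3]
      have h4 : γ₁ G ((Via.of G.t).symm g') * (((jj G).comp (β₀ G)) ((Via.of G.s).symm b')) *
          ((jj G).comp (α₀ G)) ((Via.of G.s).symm (n : Via G.s)) =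
          g' ⊗ₜ[A] (R2s.of G (((Via.of G.t) ((Via.of G.s).symm b')) ⊗ₜ[A] (n : Via G.s))) := by
        rw [RingHom.comp_apply, RingHom.comp_apply, mul_assoc, ← map_mul, jj_apply, γ₁_apply,
          Algebra.TensorProduct.tmul_mul_tmul, RingEquiv.apply_symm_apply, mul_one, one_mul,
          β₀_apply, α₀_apply, Algebra.TensorProduct.tmul_mul_tmul, mul_one, one_mul,
          RingEquiv.apply_symm_apply]
      rw [h4, LinearMap.lTensor_tmul]
      have h5 : pr G N (R2s.of G (((Via.of G.t) ((Via.of G.s).symm b')) ⊗ₜ[A] (n : Via G.s))) = 0 := by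
        change (N.mkQ.lTensor (Via G.t)) (((Via.of G.t) ((Via.of G.s).symm b')) ⊗ₜ[A] (n : Via G.s)) = 0
        rw [LinearMap.lTensor_tmul]
        have : N.mkQ (n : Via G.s) = 0 := by simp
        rw [this, TensorProduct.tmul_zero]
      rw [h5, TensorProduct.tmul_zero]

/-- `core` is a subcomodule -/
theorem Dl_mem_core [Module.Flat A (Via G.t)] (b : B) (hb : Via.of G.s b ∈ core G N) :
    Dl G b ∈ LinearMap.range ((core G N).subtype.lTensor (Via G.t)) := by
  have hex := Module.Flat.lTensor_exact (Via G.t) (f := (core G N).subtype) (g := phiN G N)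
    (by rw [LinearMap.exact_iff, Submodule.range_subtype]; rfl)
  refine (hex (Dl G b)).1 ?_
  have h1 : ((phiN G N).lTensor (Via G.t)) (Dl G b) =
      ((pr G N).lTensor (Via G.t)) (H1 G (Dl G b)) := by
    have h : ∀ z : R2 G, ((phiN G N).lTensor (Via G.t)) z =
        ((pr G N).lTensor (Via G.t)) (H1 G z) := by
      intro z
      induction z using TensorProduct.induction_on with
      | zero => rw [map_zero, map_zero, map_zero]
      | tmul g b => rfl
      | add x y hx hy => rw [map_add, map_add, map_add, hx, hy]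
    exact h _
  rw [h1, H1_Dl]
  obtain ⟨z, hz⟩ := (mem_core_iff G N b).1 hb
  rw [← hz]
  exact pr_lTensor_aux G N z

end sub

section locfin

theorem range_lTensor_mono {N N' : Submodule A (Via G.s)} (h : N ≤ N') :
    LinearMap.range (N.subtype.lTensor (Via G.t)) ≤
      LinearMap.range (N'.subtype.lTensor (Via G.t)) := by
  have : N.subtype = N'.subtype ∘ₗ Submodule.inclusion h := rfl
  rw [this, LinearMap.lTensor_comp]
  exact LinearMap.range_comp_le_range _ _

theorem exists_fg_range (z : R2 G) : ∃ N : Submodule A (Via G.s), N.FG ∧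
    z ∈ LinearMap.range (N.subtype.lTensor (Via G.t)) := by
  induction z using TensorProduct.induction_on with
  | zero => exact ⟨⊥, Submodule.fg_bot, zero_mem _⟩
  | tmul g b =>
    exact ⟨Submodule.span A {b}, Submodule.fg_span_singleton b,
      ⟨g ⊗ₜ ⟨b, Submodule.mem_span_singleton_self b⟩, rfl⟩⟩
  | add x y hx hy =>
    obtain ⟨N₁, h₁, h₁'⟩ := hx
    obtain ⟨N₂, h₂, h₂'⟩ := hy
    exact ⟨N₁ ⊔ N₂, h₁.sup h₂, add_mem (range_lTensor_mono G le_sup_left h₁')
      (range_lTensor_mono G le_sup_right h₂')⟩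

/-- **local finiteness**: a finite subset of `B` is in a finitely generated subcomodule -/
theorem exists_subcomodule [IsNoetherianRing A] [Module.Flat A (Via G.t)] (S : Finset B) :
    ∃ E : Submodule A (Via G.s), E.FG ∧ (∀ b ∈ S, Via.of G.s b ∈ E) ∧
      ∀ b, Via.of G.s b ∈ E → Dl G b ∈ LinearMap.range (E.subtype.lTensor (Via G.t)) := by
  choose N hN hN' using fun b : B => exists_fg_range G (Dl G b)
  have hfg : (S.sup N).FG := Submodule.fg_finset_sup S N fun b _ => hN b
  refine ⟨core G (S.sup N), ?_, ?_, fun b hb => Dl_mem_core G _ b hb⟩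
  · have h1 : IsNoetherian A (S.sup N : Submodule A (Via G.s)) := isNoetherian_of_fg_of_noetherian _ hfg
    have h2 : IsNoetherian A (core G (S.sup N)) := isNoetherian_of_le (core_le G (S.sup N))
    exact (Submodule.fg_top _).1 (h2.noetherian ⊤)
  · intro b hb
    rw [mem_core_iff]
    exact range_lTensor_mono G (Finset.le_sup hb) (hN' b)

/-- coordinates of an element of the image of `B ⊗ E` -/
theorem exists_coord {n : ℕ} (c : Fin n → B) (E : Submodule A (Via G.s))
    (hE : Submodule.span A (Set.range fun i => Via.of G.s (c i)) = E) (z : R2 G)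
    (hz : z ∈ LinearMap.range (E.subtype.lTensor (Via G.t))) :
    ∃ g : Fin n → B, z = ∑ i, Via.of G.t (g i) ⊗ₜ[A] Via.of G.s (c i) := by
  obtain ⟨y, rfl⟩ := hz
  induction y using TensorProduct.induction_on with
  | zero =>
    refine ⟨0, ?_⟩
    rw [map_zero]
    symm
    refine Finset.sum_eq_zero fun i _ => ?_
    rw [Pi.zero_apply, map_zero, TensorProduct.zero_tmul]
  | tmul g e =>
    have he : (e : Via G.s) ∈ Submodule.span A (Set.range fun i => Via.of G.s (c i)) := by
      rw [hE]; exact e.2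
    obtain ⟨a, ha⟩ := (Submodule.mem_span_range_iff_exists_fun A).1 he
    refine ⟨fun i => (Via.of G.t).symm (a i • g), ?_⟩
    rw [LinearMap.lTensor_tmul, Submodule.subtype_apply, ← ha, TensorProduct.tmul_sum]
    refine Finset.sum_congr rfl fun i _ => ?_
    rw [RingEquiv.apply_symm_apply, TensorProduct.tmul_smul, TensorProduct.smul_tmul']
  | add x y hx hy =>
    obtain ⟨g, hg⟩ := hx
    obtain ⟨g', hg'⟩ := hy
    refine ⟨g + g', ?_⟩
    rw [map_add, hg, hg', ← Finset.sum_add_distrib]
    refine Finset.sum_congr rfl fun i _ => ?_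
    rw [Pi.add_apply, map_add, TensorProduct.add_tmul]

end locfin

section inv

theorem i_comp_i : G.i.comp G.i = RingHom.id B := by
  have h1 : (G.i.comp G.i).comp G.t = G.t := by
    rw [RingHom.comp_assoc, G.i_t, G.i_s]
  have hA : (RingHom.id B).comp G.s = G.i.comp G.t := by rw [G.i_t, RingHom.id_comp]
  have hB : G.i.comp G.s = (G.i.comp G.i).comp G.t := by rw [h1, G.i_s]
  have hC : (G.t.comp G.e).comp G.s = (G.i.comp G.i).comp G.t := by
    rw [RingHom.comp_assoc, G.e_s, RingHom.comp_id, h1]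
  have h3 : G.comp (RingHom.id B) G.i hA = G.t.comp G.e :=
    (comp_congr' G rfl (RingHom.id_comp _).symm hA _).trans
      ((G.comp_i (RingHom.id B)).trans (by rw [RingHom.id_comp]))
  have h4 : G.comp G.i (G.i.comp G.i) hB = G.s.comp G.e :=
    (comp_congr' G rfl rfl hB _).trans ((G.comp_i G.i).trans (by rw [G.i_t]))
  have h2 : G.comp (G.t.comp G.e) (G.i.comp G.i) hC = G.i.comp G.i :=
    (comp_congr' G (by rw [h1]) rfl hC _).trans (G.e_comp (G.i.comp G.i))
  have h6 : G.comp (G.comp (RingHom.id B) G.i hA) (G.i.comp G.i)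
      ((G.comp_s _ _ hA).trans hB) = G.i.comp G.i :=
    (comp_congr' G h3 rfl _ hC).trans h2
  have h8 : G.comp (RingHom.id B) (G.comp G.i (G.i.comp G.i) hB)
      (hA.trans (G.comp_t _ _ hB).symm) = RingHom.id B :=
    (comp_congr' G rfl (h4.trans (by rw [RingHom.id_comp])) _ _).trans (G.comp_e (RingHom.id B))
  exact h6.symm.trans ((G.assoc _ _ _ hA hB).trans h8)

theorem i_bijective : Function.Bijective G.i := by
  have h : ∀ b, G.i (G.i b) = b := RingHom.congr_fun (i_comp_i G)
  exact ⟨fun x y hxy => by rw [← h x, ← h y, hxy], fun y => ⟨G.i y, h y⟩⟩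

theorem flat_t (h : G.s.Flat) : G.t.Flat := by
  rw [← G.i_s]
  exact h.comp (RingHom.Flat.of_bijective (i_bijective G))

end inv

/-- **Node N1** of K412/Defs.lean -/
theorem n1 : K412.N1.{u} := by
  intro Lb A B _ _ _ _ G hA hft hfl hsft hst
  have hflt : Module.Flat A (Via G.t) := flat_t G hfl
  -- generators of `B` over `A`
  obtain ⟨S, hS⟩ : ∃ S : Finset B, Subring.closure (Set.range G.s ∪ (S : Set B)) = ⊤ := by
    let := G.s.toAlgebra
    have h : Algebra.FiniteType A B := hsft
    obtain ⟨S, hS⟩ := h.out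
    refine ⟨S, ?_⟩
    rw [eq_top_iff]
    intro x _
    have hx : x ∈ Algebra.adjoin A (S : Set B) := by rw [hS]; trivial
    rw [← Subalgebra.mem_toSubring, Algebra.adjoin_eq_ring_closure] at hx
    exact hx
  classical
  obtain ⟨E, hEfg, hSE, hE⟩ := exists_subcomodule G (insert 1 S)
  obtain ⟨n, c₀, hc₀⟩ := Submodule.fg_iff_exists_fin_generating_family.1 hEfg
  let c : Fin (n + 1) → B := Fin.cons 1 fun i => (Via.of G.s).symm (c₀ i)
  have h1E : Via.of G.s 1 ∈ E := hSE 1 (Finset.mem_insert_self _ _)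
  have hc0 : c 0 = 1 := rfl
  have hcs : ∀ i : Fin n, c i.succ = (Via.of G.s).symm (c₀ i) := fun i => rfl
  have hspan : Submodule.span A (Set.range fun i => Via.of G.s (c i)) = E := by
    refine le_antisymm ?_ ?_
    · rw [Submodule.span_le]
      rintro _ ⟨i, rfl⟩
      refine Fin.cases ?_ (fun i => ?_) i
      · exact h1E
      · change Via.of G.s (c i.succ) ∈ E
        rw [hcs, RingEquiv.apply_symm_apply, ← hc₀]
        exact Submodule.subset_span ⟨i, rfl⟩
    · rw [← hc₀, Submodule.span_le]
      rintro _ ⟨i, rfl⟩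
      refine Submodule.subset_span ⟨i.succ, ?_⟩
      change Via.of G.s (c i.succ) = c₀ i
      rw [hcs, RingEquiv.apply_symm_apply]
  have hgens : Gens G.s c := by
    rw [Gens, eq_top_iff, ← hS, Subring.closure_le]
    rintro x (hx | hx)
    · exact Subring.subset_closure (Or.inl hx)
    · have hxE : Via.of G.s x ∈ Submodule.span A (Set.range fun i => Via.of G.s (c i)) := by
        rw [hspan]; exact hSE x (Finset.mem_insert_of_mem hx)
      obtain ⟨a, ha⟩ := (Submodule.mem_span_range_iff_exists_fun A).1 hxE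
      have hx' : x = ∑ i, G.s (a i) * c i := ha.symm
      rw [hx']
      refine sum_mem fun i _ => mul_mem (Subring.subset_closure (Or.inl ⟨_, rfl⟩))
        (Subring.subset_closure (Or.inr ⟨i, rfl⟩))
  have hcE : ∀ j, ∃ g : Fin (n + 1) → B,
      Dl G (c j) = ∑ i, Via.of G.t (g i) ⊗ₜ[A] Via.of G.s (c i) := by
    intro j
    refine exists_coord G c E hspan _ (hE (c j) ?_)
    rw [← hspan]
    exact Submodule.subset_span ⟨j, rfl⟩
  choose g hg using hcE
  obtain ⟨X, hX⟩ := hft.out
  obtain ⟨q, x, hx⟩ : ∃ (q : ℕ) (x : Fin q → A), Set.range x = (X : Set A) :=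
    ⟨X.card, fun i => (X.equivFin.symm i : A), by
      ext y
      constructor
      · rintro ⟨i, rfl⟩
        exact (X.equivFin.symm i).2
      · intro hy
        exact ⟨X.equivFin ⟨y, hy⟩, by simp⟩⟩
  obtain ⟨m₁, h₁⟩ := hgens.exists_pres 0 hc0
  obtain ⟨m₂, h₂⟩ := hgens.exists_coeff 0 hc0 (fun l : Fin q => G.t (x l))
  obtain ⟨m₃, h₃⟩ := hgens.exists_coeff 0 hc0
    (fun l : Fin (n + 1) × Fin (n + 1) => G.i (g l.2 l.1))
  let m := max m₁ (max m₂ m₃)
  obtain ⟨tx, htx⟩ := h₂ m (le_trans (le_max_left _ _) (le_max_right _ _))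
  obtain ⟨ig, hig⟩ := h₃ m (le_trans (le_max_right _ _) (le_max_right _ _))
  exact ⟨{
    n := n + 1
    m := m
    c := c
    i0 := 0
    c_i0 := hc0
    g := fun i j => g j i
    comp_c := by
      intro T _ α β h j
      have h5 := RingHom.congr_fun (pairLift_Dl G α β h) (c j)
      rw [RingHom.comp_apply, hg j, map_sum] at h5
      rw [← h5]
      refine Finset.sum_congr rfl fun i _ => ?_
      rw [pairLift_tmul, mul_comm]
    gen := fun F F' h h' => hgens.gen F F' h h'
    pres := fun a v hv hrel => h₁ m (le_max_left _ _) a v hv hrel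
    q := q
    x := x
    x_gen := by rw [hx, hX]
    tx := tx
    t_x := htx
    ig := fun i j => ig (i, j)
    i_g := fun i j => hig (i, j)
    st := hst }⟩

end Groth.Agent.ResProp.EF.K345
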