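import Mathlib

/-!
# EF / G1 / N1: the choice of `m` (980, 2.1 (a)-(d), in rings)

`A` Noetherian, `B` an `A`-algebra, `E` a finitely generated `A`-submodule of `B` containing `1` and
generating `B`. For all large `m`:
(a) the kernel of `Sym_A E → B` (and of `A[X_i] → B`, `X_i ↦` generators of `E`) is generated by
`ι 1 - 1` and by the homogeneous relations of degree exactly `m`;
(b) a given finite subset of `B` is in `E ^ m`;
(c) a given finite subset of `B ⊗ B` is in the image of `E ^ m ⊗ E ^ m`;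
(d) a given finite subset of `M ⊗ B` is in the image of `M ⊗ E ^ m`.
-/

namespace Groth.Agent.ResProp.EF.K345

open scoped TensorProduct

section general

variable {A P : Type*} [CommRing A] [CommRing P] [Algebra A P]

/-- Homogenisation with `e ∈ L`: every element of `P = A[L]` is congruent modulo `e - 1` to an
element of `L ^ m`, for all large `m`. -/
theorem exists_homogenise (L : Submodule A P) (hL : Algebra.adjoin A (L : Set P) = ⊤)
    (e : P) (he : e ∈ L) (f : P) :
    ∃ d : ℕ, ∀ m, d ≤ m → ∃ F ∈ L ^ m, f - F ∈ Ideal.span ({e - 1} : Set P) := by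
  have hepow : ∀ k : ℕ, e ^ k - 1 ∈ Ideal.span ({e - 1} : Set P) := by
    intro k
    rw [Ideal.mem_span_singleton]
    simpa using sub_dvd_pow_sub_pow e 1 k
  have hf : f ∈ Algebra.adjoin A (L : Set P) := by rw [hL]; trivial
  induction hf using Algebra.adjoin_induction with
  | mem x hx =>
    refine ⟨1, fun m hm => ?_⟩
    obtain ⟨k, rfl⟩ := Nat.exists_eq_add_of_le hm
    refine ⟨x * e ^ k, ?_, ?_⟩
    · rw [pow_add, pow_one]
      exact Submodule.mul_mem_mul hx (Submodule.pow_mem_pow _ he k)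
    · have : x - x * e ^ k = -(x * (e ^ k - 1)) := by ring
      rw [this]
      exact neg_mem (Ideal.mul_mem_left _ _ (hepow k))
  | algebraMap r =>
    refine ⟨0, fun m _ => ⟨r • e ^ m, Submodule.smul_mem _ _ (Submodule.pow_mem_pow _ he m), ?_⟩⟩
    have : algebraMap A P r - r • e ^ m = -(algebraMap A P r * (e ^ m - 1)) := by
      rw [Algebra.smul_def]; ring
    rw [this]
    exact neg_mem (Ideal.mul_mem_left _ _ (hepow m))
  | add x y _ _ hx hy =>
    obtain ⟨d₁, h₁⟩ := hx
    obtain ⟨d₂, h₂⟩ := hy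
    refine ⟨max d₁ d₂, fun m hm => ?_⟩
    obtain ⟨F, hF, hF'⟩ := h₁ m (le_trans (le_max_left _ _) hm)
    obtain ⟨G, hG, hG'⟩ := h₂ m (le_trans (le_max_right _ _) hm)
    refine ⟨F + G, add_mem hF hG, ?_⟩
    have : x + y - (F + G) = (x - F) + (y - G) := by ring
    rw [this]
    exact add_mem hF' hG'
  | mul x y _ _ hx hy =>
    obtain ⟨d₁, h₁⟩ := hx
    obtain ⟨d₂, h₂⟩ := hy
    refine ⟨d₁ + d₂, fun m hm => ?_⟩
    obtain ⟨k, rfl⟩ := Nat.exists_eq_add_of_le hm
    obtain ⟨F, hF, hF'⟩ := h₁ d₁ le_rfl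
    obtain ⟨G, hG, hG'⟩ := h₂ (d₂ + k) (Nat.le_add_right _ _)
    refine ⟨F * G, ?_, ?_⟩
    · rw [add_assoc, pow_add]
      exact Submodule.mul_mem_mul hF hG
    · have : x * y - F * G = y * (x - F) + F * (y - G) := by ring
      rw [this]
      exact add_mem (Ideal.mul_mem_left _ _ hF') (Ideal.mul_mem_left _ _ hG')

/-- The general form of (a). -/
theorem exists_ker_eq_span {B : Type*} [CommRing B] (L : Submodule A P)
    (hL : Algebra.adjoin A (L : Set P) = ⊤) (e : P) (he : e ∈ L) (φ : P →+* B) (hφ : φ e = 1)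
    (hfg : (RingHom.ker φ).FG) :
    ∃ m₀ : ℕ, ∀ m, m₀ ≤ m →
      RingHom.ker φ = Ideal.span ({e - 1} ∪ {x : P | x ∈ L ^ m ∧ φ x = 0}) := by
  have hle : ∀ m, Ideal.span ({e - 1} ∪ {x : P | x ∈ L ^ m ∧ φ x = 0}) ≤ RingHom.ker φ := by
    intro m
    rw [Ideal.span_le]
    rintro x (hx | hx)
    · rw [Set.mem_singleton_iff] at hx
      subst hx
      simp [RingHom.mem_ker, hφ]
    · exact hx.2
  obtain ⟨s, hs⟩ := hfg
  have key : ∀ f ∈ s, ∃ d : ℕ, ∀ m, d ≤ m →
      f ∈ Ideal.span ({e - 1} ∪ {x : P | x ∈ L ^ m ∧ φ x = 0}) := by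
    intro f hf
    obtain ⟨d, hd⟩ := exists_homogenise L hL e he f
    refine ⟨d, fun m hm => ?_⟩
    obtain ⟨F, hF, hF'⟩ := hd m hm
    have h1 : f - F ∈ Ideal.span ({e - 1} ∪ {x : P | x ∈ L ^ m ∧ φ x = 0}) :=
      Ideal.span_mono Set.subset_union_left hF'
    have h2 : φ F = 0 := by
      have hf0 : φ f = 0 := by
        have : f ∈ RingHom.ker φ := by rw [← hs]; exact Ideal.subset_span hf
        exact this
      have h3 : φ (f - F) = 0 := hle m h1
      rw [map_sub, hf0, zero_sub, neg_eq_zero] at h3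
      exact h3
    have h4 : F ∈ Ideal.span ({e - 1} ∪ {x : P | x ∈ L ^ m ∧ φ x = 0}) :=
      Ideal.subset_span (Or.inr ⟨hF, h2⟩)
    have : f = (f - F) + F := by ring
    rw [this]
    exact add_mem h1 h4
  choose! d hd using key
  refine ⟨s.sup d, fun m hm => le_antisymm ?_ (hle m)⟩
  rw [← hs, Ideal.span_le]
  intro f hf
  exact hd f hf m (le_trans (Finset.le_sup hf) hm)

end general

section sym

variable {A B : Type*} [CommRing A] [CommRing B] [Algebra A B]

/-- The image of `ι` generates the symmetric algebra. -/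
theorem adjoin_range_ι (M : Type*) [AddCommGroup M] [Module A M] :
    Algebra.adjoin A ((LinearMap.range (SymmetricAlgebra.ι A M) :
      Submodule A (SymmetricAlgebra A M)) : Set (SymmetricAlgebra A M)) = ⊤ := by
  rw [eq_top_iff]
  rintro x -
  induction x using SymmetricAlgebra.induction with
  | algebraMap r => exact Subalgebra.algebraMap_mem _ r
  | ι x => exact Algebra.subset_adjoin ⟨x, rfl⟩
  | mul a b ha hb => exact mul_mem ha hb
  | add a b ha hb => exact add_mem ha hb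

theorem finiteType_symmetricAlgebra (M : Type*) [AddCommGroup M] [Module A M]
    [Module.Finite A M] : Algebra.FiniteType A (SymmetricAlgebra A M) := by
  classical
  obtain ⟨s, hs⟩ := (inferInstance : Module.Finite A M).fg_top
  refine ⟨⟨(s.image (SymmetricAlgebra.ι A M) : Finset _), ?_⟩⟩
  rw [eq_top_iff, ← adjoin_range_ι M]
  refine Algebra.adjoin_le ?_
  rintro _ ⟨x, rfl⟩
  have hx : x ∈ Submodule.span A (s : Set M) := by rw [hs]; trivial
  have h2 : (SymmetricAlgebra.ι A M) x ∈ Submodule.span A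
      ((s.image (SymmetricAlgebra.ι A M) : Finset _) : Set (SymmetricAlgebra A M)) := by
    rw [Finset.coe_image, ← LinearMap.coe_coe, ← Submodule.map_span]
    exact Submodule.mem_map_of_mem hx
  exact Algebra.span_le_adjoin A _ h2

/-- The canonical map `Sym_A E → B`. -/
noncomputable def symMap (E : Submodule A B) : SymmetricAlgebra A E →ₐ[A] B :=
  SymmetricAlgebra.lift E.subtype

@[simp] theorem symMap_ι (E : Submodule A B) (x : E) :
    symMap E (SymmetricAlgebra.ι A E x) = x := by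
  simp [symMap]

theorem symMap_surjective (E : Submodule A B) (hE : Algebra.adjoin A (E : Set B) = ⊤) :
    Function.Surjective (symMap E) := by
  rw [← AlgHom.range_eq_top, eq_top_iff, ← hE]
  refine Algebra.adjoin_le ?_
  intro x hx
  exact ⟨SymmetricAlgebra.ι A E ⟨x, hx⟩, by simp⟩

/-- N1 (a), symmetric algebra form: for all large `m` the kernel of `Sym_A E → B` is generated by
`ι 1 - 1` and by its elements of degree exactly `m`. -/
theorem exists_ker_symMap [IsNoetherianRing A] (E : Submodule A B) (hfg : E.FG)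
    (h1 : (1 : B) ∈ E) :
    ∃ m₀ : ℕ, ∀ m, m₀ ≤ m →
      RingHom.ker (symMap E) = Ideal.span ({SymmetricAlgebra.ι A E ⟨1, h1⟩ - 1} ∪
        {x : SymmetricAlgebra A E |
          x ∈ (LinearMap.range (SymmetricAlgebra.ι A E)) ^ m ∧ symMap E x = 0}) := by
  have : Module.Finite A E := Module.Finite.iff_fg.mpr hfg
  have := finiteType_symmetricAlgebra (A := A) E
  have : IsNoetherianRing (SymmetricAlgebra A E) := Algebra.FiniteType.isNoetherianRing A _
  exact exists_ker_eq_span (LinearMap.range (SymmetricAlgebra.ι A E)) (adjoin_range_ι E)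
    (SymmetricAlgebra.ι A E ⟨1, h1⟩) ⟨_, rfl⟩ (symMap E : SymmetricAlgebra A E →+* B)
    (by simp) (IsNoetherian.noetherian _)

/-- N1 (a), polynomial form: `x : ι → B` with `x i₀ = 1`; for all large `m` the kernel of
`A[X_i] → B` is generated by `X i₀ - 1` and by its homogeneous elements of degree `m`. -/
theorem exists_ker_aeval [IsNoetherianRing A] {ι : Type*} [Finite ι] (x : ι → B) (i₀ : ι)
    (h1 : x i₀ = 1) :
    ∃ m₀ : ℕ, ∀ m, m₀ ≤ m →
      RingHom.ker (MvPolynomial.aeval (R := A) x) =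
        Ideal.span ({MvPolynomial.X i₀ - 1} ∪
        {p : MvPolynomial ι A | p.IsHomogeneous m ∧ MvPolynomial.aeval x p = 0}) := by
  classical
  have hgen : Algebra.adjoin A ((MvPolynomial.homogeneousSubmodule ι A 1 :
      Submodule A (MvPolynomial ι A)) : Set (MvPolynomial ι A)) = ⊤ := by
    rw [eq_top_iff, ← MvPolynomial.adjoin_range_X]
    refine Algebra.adjoin_mono ?_
    rintro _ ⟨i, rfl⟩
    exact MvPolynomial.isHomogeneous_X A i
  obtain ⟨m₀, hm₀⟩ := exists_ker_eq_span (MvPolynomial.homogeneousSubmodule ι A 1) hgen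
    (MvPolynomial.X i₀) (MvPolynomial.isHomogeneous_X A i₀)
    (MvPolynomial.aeval (R := A) x : MvPolynomial ι A →+* B) (by simp [h1])
    (IsNoetherian.noetherian _)
  have hpow : ∀ m : ℕ, (MvPolynomial.homogeneousSubmodule ι A 1) ^ m ≤
      MvPolynomial.homogeneousSubmodule ι A m := by
    intro m p hp
    induction hp using Submodule.pow_induction_on_left' with
    | algebraMap r => exact MvPolynomial.isHomogeneous_C ι r
    | add x y i hx hy h1 h2 => exact add_mem h1 h2
    | mem_mul a ha i x hx h =>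
      have := MvPolynomial.IsHomogeneous.mul (MvPolynomial.mem_homogeneousSubmodule _ _ |>.1 ha)
        (MvPolynomial.mem_homogeneousSubmodule _ _ |>.1 h)
      rw [MvPolynomial.mem_homogeneousSubmodule, Nat.succ_eq_one_add]
      exact this
  refine ⟨m₀, fun m hm => ?_⟩
  refine le_antisymm ?_ ?_
  · have h := hm₀ m hm
    change RingHom.ker (MvPolynomial.aeval (R := A) x : MvPolynomial ι A →+* B) ≤ _
    rw [h]
    refine Ideal.span_mono (Set.union_subset_union_right _ ?_)
    rintro p ⟨hp, hp'⟩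
    exact ⟨hpow m hp, hp'⟩
  · rw [Ideal.span_le]
    rintro p (hp | hp)
    · rw [Set.mem_singleton_iff] at hp
      subst hp
      simp [RingHom.mem_ker, h1]
    · exact hp.2

end sym

section filtration

variable {A B : Type*} [CommRing A] [CommRing B] [Algebra A B]

theorem pow_le_pow_of_one_mem (E : Submodule A B) (h1 : (1 : B) ∈ E) {m n : ℕ} (h : m ≤ n) :
    E ^ m ≤ E ^ n := by
  obtain ⟨k, rfl⟩ := Nat.exists_eq_add_of_le h
  intro x hx
  rw [pow_add]
  have := Submodule.mul_mem_mul hx (Submodule.pow_mem_pow E h1 k)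
  simpa using this

theorem exists_mem_pow (E : Submodule A B) (h1 : (1 : B) ∈ E)
    (hE : Algebra.adjoin A (E : Set B) = ⊤) (b : B) :
    ∃ d : ℕ, ∀ m, d ≤ m → b ∈ E ^ m := by
  obtain ⟨d, hd⟩ := exists_homogenise E hE 1 h1 b
  refine ⟨d, fun m hm => ?_⟩
  obtain ⟨F, hF, hF'⟩ := hd m hm
  have : b - F = 0 := by
    simpa using hF'
  rwa [sub_eq_zero.1 this]

/-- N1 (b). -/
theorem exists_subset_pow (E : Submodule A B) (h1 : (1 : B) ∈ E)
    (hE : Algebra.adjoin A (E : Set B) = ⊤) (s : Set B) (hs : s.Finite) :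
    ∃ d : ℕ, ∀ m, d ≤ m → s ⊆ (E ^ m : Submodule A B) := by
  choose d hd using exists_mem_pow E h1 hE
  refine ⟨hs.toFinset.sup d, fun m hm b hb => hd b m (le_trans (Finset.le_sup ?_) hm)⟩
  exact hs.mem_toFinset.2 hb

/-- N1 (d): the image of `M ⊗ E ^ m`. -/
theorem exists_mem_range_lTensor (E : Submodule A B) (h1 : (1 : B) ∈ E)
    (hE : Algebra.adjoin A (E : Set B) = ⊤) (M : Type*) [AddCommGroup M] [Module A M]
    (z : M ⊗[A] B) :
    ∃ d : ℕ, ∀ m, d ≤ m → z ∈ LinearMap.range ((E ^ m).subtype.lTensor M) := by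
  induction z using TensorProduct.induction_on with
  | zero => exact ⟨0, fun m _ => zero_mem _⟩
  | tmul x b =>
    obtain ⟨d, hd⟩ := exists_mem_pow E h1 hE b
    exact ⟨d, fun m hm => ⟨x ⊗ₜ ⟨b, hd m hm⟩, by simp⟩⟩
  | add x y hx hy =>
    obtain ⟨d₁, h₁⟩ := hx
    obtain ⟨d₂, h₂⟩ := hy
    exact ⟨max d₁ d₂, fun m hm => add_mem (h₁ m (le_trans (le_max_left _ _) hm))
      (h₂ m (le_trans (le_max_right _ _) hm))⟩

theorem exists_subset_range_lTensor (E : Submodule A B) (h1 : (1 : B) ∈ E)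
    (hE : Algebra.adjoin A (E : Set B) = ⊤) (M : Type*) [AddCommGroup M] [Module A M]
    (s : Set (M ⊗[A] B)) (hs : s.Finite) :
    ∃ d : ℕ, ∀ m, d ≤ m → s ⊆ LinearMap.range ((E ^ m).subtype.lTensor M) := by
  choose d hd using exists_mem_range_lTensor E h1 hE M
  refine ⟨hs.toFinset.sup d, fun m hm b hb => hd b m (le_trans (Finset.le_sup ?_) hm)⟩
  exact hs.mem_toFinset.2 hb

/-- N1 (d), the other side: the image of `E ^ m ⊗ N` in `B ⊗ N`. -/
theorem exists_mem_range_rTensor (E : Submodule A B) (h1 : (1 : B) ∈ E)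
    (hE : Algebra.adjoin A (E : Set B) = ⊤) (N : Type*) [AddCommGroup N] [Module A N]
    (z : B ⊗[A] N) :
    ∃ d : ℕ, ∀ m, d ≤ m → z ∈ LinearMap.range ((E ^ m).subtype.rTensor N) := by
  induction z using TensorProduct.induction_on with
  | zero => exact ⟨0, fun m _ => zero_mem _⟩
  | tmul b x =>
    obtain ⟨d, hd⟩ := exists_mem_pow E h1 hE b
    exact ⟨d, fun m hm => ⟨⟨b, hd m hm⟩ ⊗ₜ x, by simp⟩⟩
  | add x y hx hy =>
    obtain ⟨d₁, h₁⟩ := hx
    obtain ⟨d₂, h₂⟩ := hy
    exact ⟨max d₁ d₂, fun m hm => add_mem (h₁ m (le_trans (le_max_left _ _) hm))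
      (h₂ m (le_trans (le_max_right _ _) hm))⟩

theorem exists_subset_range_rTensor (E : Submodule A B) (h1 : (1 : B) ∈ E)
    (hE : Algebra.adjoin A (E : Set B) = ⊤) (N : Type*) [AddCommGroup N] [Module A N]
    (s : Set (B ⊗[A] N)) (hs : s.Finite) :
    ∃ d : ℕ, ∀ m, d ≤ m → s ⊆ LinearMap.range ((E ^ m).subtype.rTensor N) := by
  choose d hd using exists_mem_range_rTensor E h1 hE N
  refine ⟨hs.toFinset.sup d, fun m hm b hb => hd b m (le_trans (Finset.le_sup ?_) hm)⟩
  exact hs.mem_toFinset.2 hb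

/-- N1 (d) for a subcomodule `E`: elements of `B ⊗ B` in the image of `B ⊗ E` are in the image of
`E ^ m ⊗ E` for all large `m`. -/
theorem exists_mem_range_map' (E : Submodule A B) (h1 : (1 : B) ∈ E)
    (hE : Algebra.adjoin A (E : Set B) = ⊤) (z : B ⊗[A] B)
    (hz : z ∈ LinearMap.range (E.subtype.lTensor B)) :
    ∃ d : ℕ, ∀ m, d ≤ m →
      z ∈ LinearMap.range (TensorProduct.map (E ^ m).subtype E.subtype) := by
  obtain ⟨w, rfl⟩ := hz
  obtain ⟨d, hd⟩ := exists_mem_range_rTensor E h1 hE E w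
  refine ⟨d, fun m hm => ?_⟩
  obtain ⟨y, rfl⟩ := hd m hm
  refine ⟨y, ?_⟩
  rw [← LinearMap.comp_apply, LinearMap.lTensor_comp_rTensor]

theorem exists_subset_range_map' (E : Submodule A B) (h1 : (1 : B) ∈ E)
    (hE : Algebra.adjoin A (E : Set B) = ⊤) (s : Set (B ⊗[A] B)) (hs : s.Finite)
    (hz : s ⊆ LinearMap.range (E.subtype.lTensor B)) :
    ∃ d : ℕ, ∀ m, d ≤ m →
      s ⊆ LinearMap.range (TensorProduct.map (E ^ m).subtype E.subtype) := by
  have : ∀ z : B ⊗[A] B, ∃ d : ℕ, z ∈ s → ∀ m, d ≤ m →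
      z ∈ LinearMap.range (TensorProduct.map (E ^ m).subtype E.subtype) := by
    intro z
    by_cases h : z ∈ s
    · obtain ⟨d, hd⟩ := exists_mem_range_map' E h1 hE z (hz h)
      exact ⟨d, fun _ => hd⟩
    · exact ⟨0, fun h' => absurd h' h⟩
  choose d hd using this
  refine ⟨hs.toFinset.sup d, fun m hm b hb => hd b hb m (le_trans (Finset.le_sup ?_) hm)⟩
  exact hs.mem_toFinset.2 hb

/-- N1 (c): the image of `E ^ m ⊗ E ^ m`. -/
theorem exists_mem_range_map (E : Submodule A B) (h1 : (1 : B) ∈ E)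
    (hE : Algebra.adjoin A (E : Set B) = ⊤) (z : B ⊗[A] B) :
    ∃ d : ℕ, ∀ m, d ≤ m →
      z ∈ LinearMap.range (TensorProduct.map (E ^ m).subtype (E ^ m).subtype) := by
  induction z using TensorProduct.induction_on with
  | zero => exact ⟨0, fun m _ => zero_mem _⟩
  | tmul x b =>
    obtain ⟨d₁, h₁⟩ := exists_mem_pow E h1 hE x
    obtain ⟨d₂, h₂⟩ := exists_mem_pow E h1 hE b
    exact ⟨max d₁ d₂, fun m hm => ⟨⟨x, h₁ m (le_trans (le_max_left _ _) hm)⟩ ⊗ₜ
      ⟨b, h₂ m (le_trans (le_max_right _ _) hm)⟩, by simp⟩⟩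
  | add x y hx hy =>
    obtain ⟨d₁, h₁⟩ := hx
    obtain ⟨d₂, h₂⟩ := hy
    exact ⟨max d₁ d₂, fun m hm => add_mem (h₁ m (le_trans (le_max_left _ _) hm))
      (h₂ m (le_trans (le_max_right _ _) hm))⟩

theorem exists_subset_range_map (E : Submodule A B) (h1 : (1 : B) ∈ E)
    (hE : Algebra.adjoin A (E : Set B) = ⊤) (s : Set (B ⊗[A] B)) (hs : s.Finite) :
    ∃ d : ℕ, ∀ m, d ≤ m →
      s ⊆ LinearMap.range (TensorProduct.map (E ^ m).subtype (E ^ m).subtype) := by
  choose d hd using exists_mem_range_map E h1 hE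
  refine ⟨hs.toFinset.sup d, fun m hm b hb => hd b m (le_trans (Finset.le_sup ?_) hm)⟩
  exact hs.mem_toFinset.2 hb

/-- N1, everything with one `m`. -/
theorem exists_N1 [IsNoetherianRing A] (E : Submodule A B) (hfg : E.FG) (h1 : (1 : B) ∈ E)
    (hE : Algebra.adjoin A (E : Set B) = ⊤) (s : Set B) (hs : s.Finite)
    (t : Set (B ⊗[A] B)) (ht : t.Finite) (w : Set (E ⊗[A] B)) (hw : w.Finite) :
    ∃ m₀ : ℕ, ∀ m, m₀ ≤ m →
      RingHom.ker (symMap E) = Ideal.span ({SymmetricAlgebra.ι A E ⟨1, h1⟩ - 1} ∪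
        {x : SymmetricAlgebra A E |
          x ∈ (LinearMap.range (SymmetricAlgebra.ι A E)) ^ m ∧ symMap E x = 0}) ∧
      s ⊆ (E ^ m : Submodule A B) ∧
      t ⊆ LinearMap.range (TensorProduct.map (E ^ m).subtype (E ^ m).subtype) ∧
      w ⊆ LinearMap.range ((E ^ m).subtype.lTensor E) := by
  obtain ⟨m₁, h₁⟩ := exists_ker_symMap E hfg h1
  obtain ⟨m₂, h₂⟩ := exists_subset_pow E h1 hE s hs
  obtain ⟨m₃, h₃⟩ := exists_subset_range_map E h1 hE t ht
  obtain ⟨m₄, h₄⟩ := exists_subset_range_lTensor E h1 hE E w hw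
  refine ⟨max (max m₁ m₂) (max m₃ m₄), fun m hm => ⟨h₁ m ?_, h₂ m ?_, h₃ m ?_, h₄ m ?_⟩⟩ <;>
    omega

end filtration

section univ

variable {A B C' : Type*} [CommRing A] [CommRing B] [Algebra A B] [CommRing C'] [Algebra A C']

/-- Universal property of `B` from N1 (a): `A`-algebra maps `B → C'` are `A`-linear maps
`g : E → C'` with `g 1 = 1` killing the relations of degree `m`. -/
theorem existsUnique_algHom (E : Submodule A B) (h1 : (1 : B) ∈ E)
    (hE : Algebra.adjoin A (E : Set B) = ⊤) (m : ℕ)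
    (hm : RingHom.ker (symMap E) = Ideal.span ({SymmetricAlgebra.ι A E ⟨1, h1⟩ - 1} ∪
        {x : SymmetricAlgebra A E |
          x ∈ (LinearMap.range (SymmetricAlgebra.ι A E)) ^ m ∧ symMap E x = 0}))
    (g : E →ₗ[A] C') (hg1 : g ⟨1, h1⟩ = 1)
    (hg : ∀ x ∈ (LinearMap.range (SymmetricAlgebra.ι A E)) ^ m, symMap E x = 0 →
      SymmetricAlgebra.lift g x = 0) :
    ∃! ψ : B →ₐ[A] C', ∀ e : E, ψ (e : B) = g e := by
  have hker : ∀ x, x ∈ RingHom.ker (symMap E) → SymmetricAlgebra.lift g x = 0 := by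
    intro x hx
    rw [hm] at hx
    have : Ideal.span ({SymmetricAlgebra.ι A E ⟨1, h1⟩ - 1} ∪
        {x : SymmetricAlgebra A E |
          x ∈ (LinearMap.range (SymmetricAlgebra.ι A E)) ^ m ∧ symMap E x = 0}) ≤
        RingHom.ker (SymmetricAlgebra.lift g) := by
      rw [Ideal.span_le]
      rintro y (hy | hy)
      · rw [Set.mem_singleton_iff] at hy
        subst hy
        simp [RingHom.mem_ker, hg1]
      · exact hg y hy.1 hy.2
    exact this hx
  refine ⟨(Ideal.Quotient.liftₐ (RingHom.ker (symMap E)) (SymmetricAlgebra.lift g) hker).comp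
    (Ideal.quotientKerAlgEquivOfSurjective (symMap_surjective E hE)).symm.toAlgHom, ?_, ?_⟩
  · intro e
    have h2 : (Ideal.quotientKerAlgEquivOfSurjective (symMap_surjective E hE)).symm (e : B) =
        Ideal.Quotient.mk _ (SymmetricAlgebra.ι A E e) := by
      rw [AlgEquiv.symm_apply_eq]
      simp
    change Ideal.Quotient.liftₐ (RingHom.ker (symMap E)) (SymmetricAlgebra.lift g) hker
      ((Ideal.quotientKerAlgEquivOfSurjective (symMap_surjective E hE)).symm (e : B)) = g e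
    rw [h2]
    exact SymmetricAlgebra.lift_ι_apply g e
  · intro ψ hψ
    refine AlgHom.ext_of_adjoin_eq_top hE ?_
    intro x hx
    have h3 := hψ ⟨x, hx⟩
    rw [h3]
    have h2 : (Ideal.quotientKerAlgEquivOfSurjective (symMap_surjective E hE)).symm x =
        Ideal.Quotient.mk _ (SymmetricAlgebra.ι A E ⟨x, hx⟩) := by
      rw [AlgEquiv.symm_apply_eq]
      simp
    change _ = Ideal.Quotient.liftₐ (RingHom.ker (symMap E)) (SymmetricAlgebra.lift g) hker
      ((Ideal.quotientKerAlgEquivOfSurjective (symMap_surjective E hE)).symm x)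
    rw [h2]
    exact (SymmetricAlgebra.lift_ι_apply g _).symm

/-- The same with the relations expressed by a map on `E ^ m` (the map `mu` of 980, 2.1). -/
theorem existsUnique_algHom' (E : Submodule A B) (h1 : (1 : B) ∈ E)
    (hE : Algebra.adjoin A (E : Set B) = ⊤) (m : ℕ)
    (hm : RingHom.ker (symMap E) = Ideal.span ({SymmetricAlgebra.ι A E ⟨1, h1⟩ - 1} ∪
        {x : SymmetricAlgebra A E |
          x ∈ (LinearMap.range (SymmetricAlgebra.ι A E)) ^ m ∧ symMap E x = 0}))
    (g : E →ₗ[A] C') (hg1 : g ⟨1, h1⟩ = 1) (h : (E ^ m : Submodule A B) →ₗ[A] C')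
    (hh : ∀ (v : Fin m → E) (hv : ∏ i, (v i : B) ∈ E ^ m), h ⟨∏ i, (v i : B), hv⟩ = ∏ i, g (v i)) :
    ∃! ψ : B →ₐ[A] C', ∀ e : E, ψ (e : B) = g e := by
  have hmem : ∀ x ∈ (LinearMap.range (SymmetricAlgebra.ι A E)) ^ m,
      ∃ hx : symMap E x ∈ E ^ m, h ⟨symMap E x, hx⟩ = SymmetricAlgebra.lift g x := by
    intro x hx
    rw [Submodule.pow_eq_span_pow_set] at hx
    induction hx using Submodule.span_induction with
    | mem x hx =>
      rw [Set.mem_pow] at hx
      obtain ⟨f, hf⟩ := hx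
      rw [List.prod_ofFn] at hf
      have hf' : ∀ i, ∃ e : E, SymmetricAlgebra.ι A E e = (f i : SymmetricAlgebra A E) :=
        fun i => (f i).2
      choose e he using hf'
      have h4 : symMap E x = ∏ i, (e i : B) := by
        rw [← hf, map_prod]
        refine Finset.prod_congr rfl fun i _ => ?_
        rw [← he i, symMap_ι]
      have h5 : SymmetricAlgebra.lift g x = ∏ i, g (e i) := by
        rw [← hf, map_prod]
        refine Finset.prod_congr rfl fun i _ => ?_
        rw [← he i, SymmetricAlgebra.lift_ι_apply]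
      have h6 : ∏ i, (e i : B) ∈ E ^ m := by
        have : ∏ i, (e i : B) = (List.ofFn fun i => (e i : B)).prod := by rw [List.prod_ofFn]
        rw [this, Submodule.pow_eq_span_pow_set]
        refine Submodule.subset_span ?_
        rw [Set.mem_pow]
        exact ⟨fun i => ⟨(e i : B), (e i).2⟩, rfl⟩
      refine ⟨h4 ▸ h6, ?_⟩
      rw [h5, ← hh e h6]
      congr 1
      exact Subtype.ext h4
    | zero =>
      have h0 : symMap E 0 ∈ E ^ m := by rw [map_zero]; exact zero_mem _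
      refine ⟨h0, ?_⟩
      have h7 : (⟨symMap E 0, h0⟩ : (E ^ m : Submodule A B)) = 0 := Subtype.ext (map_zero _)
      rw [h7, map_zero, map_zero]
    | add x y _ _ hx hy =>
      obtain ⟨hx1, hx2⟩ := hx
      obtain ⟨hy1, hy2⟩ := hy
      have h0 : symMap E (x + y) ∈ E ^ m := by rw [map_add]; exact add_mem hx1 hy1
      refine ⟨h0, ?_⟩
      have h7 : (⟨symMap E (x + y), h0⟩ : (E ^ m : Submodule A B)) =
          ⟨symMap E x, hx1⟩ + ⟨symMap E y, hy1⟩ := Subtype.ext (map_add _ _ _)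
      rw [h7, map_add, map_add, hx2, hy2]
    | smul a x _ hx =>
      obtain ⟨hx1, hx2⟩ := hx
      have h0 : symMap E (a • x) ∈ E ^ m := by rw [map_smul]; exact Submodule.smul_mem _ _ hx1
      refine ⟨h0, ?_⟩
      have h7 : (⟨symMap E (a • x), h0⟩ : (E ^ m : Submodule A B)) =
          a • ⟨symMap E x, hx1⟩ := Subtype.ext (map_smul _ _ _)
      rw [h7, map_smul, map_smul, hx2]
  refine existsUnique_algHom E h1 hE m hm g hg1 fun x hx hx0 => ?_
  obtain ⟨h2, h3⟩ := hmem x hx
  rw [← h3]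
  have : (⟨symMap E x, h2⟩ : (E ^ m : Submodule A B)) = 0 := Subtype.ext hx0
  rw [this, map_zero]

/-- N1 in the form of 786 (17406, 17609), everything with one `m`: for all large `m`
(a) the universal property of `B` (`PresUP`, any commutative `A`-algebra `C'` in any universe is
handled by `existsUnique_algHom'`; here the kernel form), (b) a finite set in `E ^ m`, (d) a finite
set of elements of `im (B ⊗ E)` in `im (E ^ m ⊗ E)`. -/
theorem exists_N1' [IsNoetherianRing A] (E : Submodule A B) (hfg : E.FG) (h1 : (1 : B) ∈ E)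
    (hE : Algebra.adjoin A (E : Set B) = ⊤) (s : Set B) (hs : s.Finite)
    (t : Set (B ⊗[A] B)) (ht : t.Finite) (htE : t ⊆ LinearMap.range (E.subtype.lTensor B)) :
    ∃ m₀ : ℕ, ∀ m, m₀ ≤ m →
      RingHom.ker (symMap E) = Ideal.span ({SymmetricAlgebra.ι A E ⟨1, h1⟩ - 1} ∪
        {x : SymmetricAlgebra A E |
          x ∈ (LinearMap.range (SymmetricAlgebra.ι A E)) ^ m ∧ symMap E x = 0}) ∧
      s ⊆ (E ^ m : Submodule A B) ∧
      t ⊆ LinearMap.range (TensorProduct.map (E ^ m).subtype E.subtype) := by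
  obtain ⟨m₁, h₁⟩ := exists_ker_symMap E hfg h1
  obtain ⟨m₂, h₂⟩ := exists_subset_pow E h1 hE s hs
  obtain ⟨m₃, h₃⟩ := exists_subset_range_map' E h1 hE t ht htE
  refine ⟨max m₁ (max m₂ m₃), fun m hm => ⟨h₁ m ?_, h₂ m ?_, h₃ m ?_⟩⟩ <;>
    omega

end univ

end Groth.Agent.ResProp.EF.K345
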